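import Groth.Prelude.Def_W4c3tautjacobianRel
import Mathlib.RingTheory.MvPolynomial.EulerIdentity
import Mathlib.Tactic

/-! The commutator of the operators `E` and `F` on the formal relation ring. -/

set_option autoImplicit false

open MvPolynomial W4c3tautjacobian

namespace TautRelLib

variable {g : ℕ}

theorem mem_idx {p : ℕ × ℕ} (h : Valid g p) : p ∈ idx g := by
  obtain ⟨h1, h2, -, -⟩ := h
  simp only [idx, Finset.mem_product, Finset.mem_range]
  omega

noncomputable instance fintypeValid : Fintype {p : ℕ × ℕ // Valid g p} :=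
  Fintype.subtype ((idx g).filter (Valid g)) fun _ =>
    ⟨fun h => (Finset.mem_filter.1 h).2, fun h => Finset.mem_filter.2 ⟨mem_idx h, h⟩⟩

theorem sum_idx {M : Type*} [AddCommMonoid M] (f : ℕ × ℕ → M) (h0 : ∀ p, ¬Valid g p → f p = 0) :
    ∑ p ∈ idx g, f p = ∑ v : {p : ℕ × ℕ // Valid g p}, f v.1 := by
  rw [← Finset.sum_filter_of_ne fun p _ hp => (not_imp_comm.1 (h0 p)) hp]
  exact (Finset.sum_subtype ((idx g).filter (Valid g))
    (fun p => ⟨fun h => (Finset.mem_filter.1 h).2, fun h => Finset.mem_filter.2 ⟨mem_idx h, h⟩⟩) f)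

theorem xv_valid {p : ℕ × ℕ} (h : Valid g p) : xv g p.1 p.2 = X (some ⟨p, h⟩) := by
  have h0 : ¬((p.1 : ℤ) = 0 ∧ (p.2 : ℤ) = 0) := fun ⟨a, b⟩ => h.2.2.2 (Prod.ext (Int.natCast_eq_zero.1 a) (Int.natCast_eq_zero.1 b))
  have h1 : 0 ≤ (p.1 : ℤ) ∧ 0 ≤ (p.2 : ℤ) ∧ Valid g ((p.1 : ℤ).toNat, (p.2 : ℤ).toNat) :=
    ⟨Int.natCast_nonneg _, Int.natCast_nonneg _, by simpa using h⟩
  rw [xv, if_neg h0, dif_pos h1]
  rfl

/-- The first degree. -/
noncomputable def w (v : Var g) : ℤ := ((wt g v).1 : ℤ)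

theorem dv_valid {p : ℕ × ℕ} (h : Valid g p) (P : RelRing g) : dv g p P = pderiv (some ⟨p, h⟩) P := dif_pos h

theorem dv_not {p : ℕ × ℕ} (h : ¬Valid g p) (P : RelRing g) : dv g p P = 0 := dif_neg h

theorem euler {P : RelRing g} {m : ℤ} (hP : IsWeightedHomogeneous w P m) :
    ∑ p ∈ idx g, (p.1 : RelRing g) * xv g p.1 p.2 * dv g p P = (m : RelRing g) * P := by
  classical
  rw [sum_idx _ fun p hp => by rw [dv_not hp, mul_zero]]
  rw [Finset.sum_congr rfl fun (v : {p : ℕ × ℕ // Valid g p}) _ =>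
    show (v.1.1 : RelRing g) * xv g v.1.1 v.1.2 * dv g v.1 P = (v.1.1 : RelRing g) * (X (some v) * pderiv (some v) P) by
      rw [xv_valid v.2, dv_valid v.2, mul_assoc]]
  rw [P.as_sum]
  simp only [map_sum, Finset.mul_sum]
  rw [Finset.sum_comm]
  refine Finset.sum_congr rfl fun d hd => ?_
  simp only [X_mul_pderiv_monomial, nsmul_eq_mul, ← mul_assoc, ← Nat.cast_mul, ← Finset.sum_mul, ← Nat.cast_sum]
  congr 1
  have hw := hP (mem_support_iff.1 hd)
  rw [← hw, Finsupp.weight_apply, Finsupp.sum_fintype _ _ (fun v => zero_nsmul (w v)), Fintype.sum_option]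
  simp [w, wt, mul_comm]

theorem isHom_xv (a b : ℤ) : IsWeightedHomogeneous (w (g := g)) (xv g a b) a := by
  unfold xv
  split_ifs with h0 h
  · rw [h0.1, ← map_natCast (C : ℚ →+* RelRing g)]
    exact isWeightedHomogeneous_C _ _
  · convert! isWeightedHomogeneous_X ℚ (w (g := g)) (some ⟨(a.toNat, b.toNat), h.2.2⟩) using 1
    simp [w, wt, h.1]
  · exact isWeightedHomogeneous_zero _ _ _

theorem isHom_dv {P : RelRing g} {m : ℤ} (hP : IsWeightedHomogeneous w P m) (p : ℕ × ℕ) :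
    IsWeightedHomogeneous w (dv g p P) (m - p.1) := by
  by_cases h : Valid g p
  · rw [dv_valid h]
    exact hP.pderiv (by simp [w, wt])
  · rw [dv_not h]
    exact isWeightedHomogeneous_zero _ _ _

theorem isHom_F {P : RelRing g} {m : ℤ} (hP : IsWeightedHomogeneous w P m) :
    IsWeightedHomogeneous w (F g P) (m - 2) := by
  have hnat : ∀ k : ℕ, IsWeightedHomogeneous (w (g := g)) ((k : RelRing g)) 0 := fun k => by
    rw [← map_natCast (C : ℚ →+* RelRing g)]; exact isWeightedHomogeneous_C _ _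
  have hy : IsWeightedHomogeneous (w (g := g)) (X none : RelRing g) 0 := isWeightedHomogeneous_X _ _ _
  refine IsWeightedHomogeneous.add ?_ (IsWeightedHomogeneous.sum _ _ _ fun p _ => ?_)
  · rw [MvPolynomial.smul_eq_C_mul]
    refine (IsWeightedHomogeneous.sum _ _ _ fun p _ => IsWeightedHomogeneous.sum _ _ _ fun q _ => ?_).C_mul _
    have h1 := ((hy.mul (isHom_xv ((p.1 : ℤ) - 1) ((p.2 : ℤ) - 1))).mul (isHom_xv ((q.1 : ℤ) - 1) ((q.2 : ℤ) - 1)))
    have h2 := (hnat (mergeCoeff p.1 q.1)).mul (isHom_xv (g := g) ((p.1 : ℤ) + q.1 - 2) ((p.2 : ℤ) + q.2))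
    rw [show (0 : ℤ) + ((p.1 : ℤ) - 1) + ((q.1 : ℤ) - 1) = (p.1 : ℤ) + q.1 - 2 by ring] at h1
    rw [zero_add] at h2
    have h3 := (h1.sub h2).mul (isHom_dv (isHom_dv hP q) p)
    rwa [show (p.1 : ℤ) + q.1 - 2 + (m - q.1 - p.1) = m - 2 by ring] at h3
  · have h3 := (isHom_xv (g := g) ((p.1 : ℤ) - 2) (p.2 : ℤ)).mul (isHom_dv hP p)
    rwa [show (p.1 : ℤ) - 2 + (m - p.1) = m - 2 by ring] at h3

theorem eq_zero_of_neg {P : RelRing g} {m : ℤ} (hm : m < 0) (hP : IsWeightedHomogeneous w P m) : P = 0 :=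
  hP.eq_zero_of_no_monomials fun d hd => by
    have : 0 ≤ Finsupp.weight (w (g := g)) d := by
      rw [Finsupp.weight_apply]
      exact Finset.sum_nonneg fun v _ => nsmul_nonneg (Int.natCast_nonneg _) _
    omega

theorem valid20 (hg : 1 ≤ g) : Valid g (2, 0) := ⟨le_rfl, by simp; omega, by decide, by decide⟩

theorem dv_E (hg : 1 ≤ g) (q : ℕ × ℕ) (P : RelRing g) :
    dv g q (E g P) = E g (dv g q P) + (if q = (2, 0) then P else 0) := by
  have hx : xv g 2 0 = X (some ⟨(2, 0), valid20 hg⟩) := xv_valid (valid20 hg)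
  rw [E, E, hx]
  by_cases hq : Valid g q
  · rw [dv_valid hq, dv_valid hq, pderiv_mul, pderiv_X, add_comm]
    congr 1
    by_cases h : q = (2, 0)
    · subst h; simp
    · rw [if_neg h, Pi.single_eq_of_ne (by simpa using Ne.symm h), zero_mul]
  · rw [dv_not hq, dv_not hq, mul_zero, zero_add, if_neg fun (h : q = (2, 0)) => hq (h ▸ valid20 hg)]

theorem dv_add (p : ℕ × ℕ) (P Q : RelRing g) : dv g p (P + Q) = dv g p P + dv g p Q := by
  by_cases h : Valid g p
  · rw [dv_valid h, dv_valid h, dv_valid h, map_add]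
  · rw [dv_not h, dv_not h, dv_not h, add_zero]

theorem dv_zero (p : ℕ × ℕ) : dv g p (0 : RelRing g) = 0 := by
  by_cases h : Valid g p
  · rw [dv_valid h, map_zero]
  · rw [dv_not h]

theorem F_add (P Q : RelRing g) : F g (P + Q) = F g P + F g Q := by
  simp only [F, dv_add, mul_add, Finset.sum_add_distrib, smul_add]
  abel

theorem F_E (hg : 1 ≤ g) {P : RelRing g} {m : ℤ} (hP : IsWeightedHomogeneous w P m) :
    F g (E g P) = E g (F g P) + ((g : RelRing g) - (m : RelRing g)) * P := by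
  classical
  let coef : ℕ × ℕ → ℕ × ℕ → RelRing g := fun p q =>
    X none * xv g ((p.1 : ℤ) - 1) ((p.2 : ℤ) - 1) * xv g ((q.1 : ℤ) - 1) ((q.2 : ℤ) - 1)
      - (mergeCoeff p.1 q.1 : RelRing g) * xv g ((p.1 : ℤ) + q.1 - 2) ((p.2 : ℤ) + q.2)
  have hsymm : ∀ p q, coef p q = coef q p := fun p q => by
    have : mergeCoeff p.1 q.1 = mergeCoeff q.1 p.1 := by
      unfold mergeCoeff
      by_cases h : p.1 = 0 ∨ q.1 = 0
      · rw [if_pos h, if_pos h.symm]
      · rw [if_neg h, if_neg fun h' => h h'.symm, add_comm q.1 p.1]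
        push Not at h
        exact Nat.choose_symm_of_eq_add (by omega)
    simp only [coef, this, add_comm (p.1 : ℤ), add_comm (p.2 : ℤ)]
    ring
  have hzero : xv g 1 (-1) = 0 := by simp [xv]
  have h20 : ∀ q : ℕ × ℕ, coef (2, 0) q = -((q.1 : RelRing g) * xv g q.1 q.2) := fun q => by
    simp only [coef, Nat.cast_ofNat, Nat.cast_zero, zero_sub, zero_add]
    rw [show (2 : ℤ) - 1 = 1 from rfl, hzero, mul_zero, zero_mul, zero_sub, show (2 : ℤ) + q.1 - 2 = q.1 by ring]
    congr 2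
    unfold mergeCoeff
    rcases Nat.eq_zero_or_pos q.1 with h | h
    · simp [h]
    · rw [if_neg (by omega), show 2 + q.1 - 2 = q.1 by omega, show (2 : ℕ) - 1 = 1 from rfl, Nat.choose_one_right]
  have hmem : (2, 0) ∈ idx g := mem_idx (valid20 hg)
  have hdd : ∀ p q, dv g p (dv g q (E g P)) = E g (dv g p (dv g q P)) +
      ((if p = (2, 0) then dv g q P else 0) + if q = (2, 0) then dv g p P else 0) := fun p q => by
    rw [dv_E hg, dv_add, dv_E hg]
    split_ifs <;> simp [dv_zero, add_assoc]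
  simp only [F, hdd]
  simp only [dv_E hg]
  simp only [E, mul_add, Finset.sum_add_distrib, mul_ite, mul_zero, Finset.sum_ite_eq', Finset.sum_ite_irrel,
    Finset.sum_const_zero, hmem, if_true, smul_add, Finset.smul_sum, Finset.mul_sum, mul_smul_comm]
  have he : ∑ p ∈ idx g, coef (2, 0) p * dv g p P = -((m : RelRing g) * P) := by
    rw [← euler hP, ← Finset.sum_neg_distrib]
    exact Finset.sum_congr rfl fun q _ => by rw [h20, neg_mul]
  have he' : ∑ p ∈ idx g, coef p (2, 0) * dv g p P = -((m : RelRing g) * P) := by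
    rw [← he]; exact Finset.sum_congr rfl fun q _ => by rw [hsymm]
  have hx00 : xv g (((2 : ℕ) : ℤ) - 2) ((0 : ℕ) : ℤ) = (g : RelRing g) := by simp [xv]
  simp only [← Finset.smul_sum]
  rw [hx00]
  simp only [coef] at he he'
  rw [he, he', sub_mul]
  have h2 : ∀ a : RelRing g, (1 / 2 : ℚ) • -a + (1 / 2 : ℚ) • -a = -a := fun a => by rw [← add_smul]; norm_num
  rw [h2]
  simp only [mul_left_comm (xv g 2 0)]
  ring

theorem F_zero : F g 0 = 0 := by simp [F, dv_zero]

theorem F_mul_intCast (c : ℤ) (P : RelRing g) : F g ((c : RelRing g) * P) = (c : RelRing g) * F g P := by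
  let f : RelRing g →+ RelRing g := { toFun := F g, map_zero' := F_zero, map_add' := F_add }
  simpa [f, zsmul_eq_mul] using map_zsmul f c P

theorem isHom_iterate {P : RelRing g} {m : ℤ} (hP : IsWeightedHomogeneous w P m) :
    ∀ k : ℕ, IsWeightedHomogeneous w ((F g)^[k] P) (m - 2 * k)
  | 0 => by simpa using hP
  | k + 1 => by
    rw [Function.iterate_succ_apply']
    convert! isHom_F (isHom_iterate hP k) using 1
    push_cast; ring

theorem iterate_E (hg : 1 ≤ g) {P : RelRing g} {m : ℤ} (hP : IsWeightedHomogeneous w P m) :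
    ∀ k : ℕ, (F g)^[k + 1] (E g P) =
      E g ((F g)^[k + 1] P) + (((k + 1 : ℕ) * ((g : ℤ) - m + k) : ℤ) : RelRing g) * (F g)^[k] P
  | 0 => by
    rw [zero_add, Function.iterate_one, Function.iterate_zero_apply, F_E hg hP]
    push_cast; ring
  | k + 1 => by
    rw [Function.iterate_succ_apply', iterate_E hg hP k, F_add, F_E hg (isHom_iterate hP (k + 1)),
      ← Function.iterate_succ_apply' (F g) (k + 1), F_mul_intCast, ← Function.iterate_succ_apply' (F g) k]
    push_cast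
    ring

theorem iterate_E_eq_zero (hg : 1 ≤ g) {n : ℕ} {P : RelRing g}
    (hP : IsWeightedHomogeneous (wt g) P ((2 * g, n) : ℕ × ℕ)) : (F g)^[g + 1] (E g P) = 0 := by
  classical
  have hP' : IsWeightedHomogeneous w P ((2 * g : ℕ) : ℤ) := fun d hd => by
    have h := congrArg (fun a : ℕ × ℕ => ((a.1 : ℕ) : ℤ)) (hP hd)
    simp only [Finsupp.weight_apply] at h ⊢
    rw [← h]
    simp [Finsupp.sum, w, Prod.fst_sum]
  rw [iterate_E hg hP' g, eq_zero_of_neg (by push_cast; omega) (isHom_iterate hP' (g + 1))]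
  rw [show ((g + 1 : ℕ) : ℤ) * ((g : ℤ) - ((2 * g : ℕ) : ℤ) + (g : ℤ)) = 0 by push_cast; ring]
  simp [E]

end TautRelLib
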