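import Groth.Prelude.Def_W4c3tautjacobianRel
import Mathlib.RingTheory.MvPolynomial.EulerIdentity
import Mathlib

/-! sl₂ structure on the formal relation ring: `[F, E] = g - deg₁`, and vanishing of iterates. -/

set_option autoImplicit false

namespace W4c3tautjacobian.Low

open MvPolynomial

variable {g : ℕ}

def wz (g : ℕ) : Var g → ℤ × ℤ
  | none => (0, 2)
  | some p => ((p.1.1 : ℤ), (p.1.2 : ℤ))

abbrev Hom (g : ℕ) (P : RelRing g) (a b : ℤ) : Prop := IsWeightedHomogeneous (wz g) P (a, b)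

theorem hom_xv (i j : ℤ) : Hom g (xv g i j) i j := by
  unfold xv
  split_ifs with h0 h
  · obtain ⟨rfl, rfl⟩ := h0
    rw [show (g : RelRing g) = C (g : ℚ) from (map_natCast C g).symm]
    exact isWeightedHomogeneous_C _ _
  · have := isWeightedHomogeneous_X (R := ℚ) (wz g) (some ⟨(i.toNat, j.toNat), h.2.2⟩)
    have e : wz g (some ⟨(i.toNat, j.toNat), h.2.2⟩) = (i, j) := by
      show ((i.toNat : ℤ), (j.toNat : ℤ)) = (i, j)
      rw [Int.toNat_of_nonneg h.1, Int.toNat_of_nonneg h.2.1]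
    rw [e] at this
    exact this
  · exact isWeightedHomogeneous_zero _ _ _

theorem hom_dv {P : RelRing g} {a b : ℤ} (hP : Hom g P a b) (p : ℕ × ℕ) :
    Hom g (dv g p P) (a - p.1) (b - p.2) := by
  unfold dv
  split_ifs with h
  · refine hP.pderiv ?_
    show ((a - p.1, b - p.2) : ℤ × ℤ) + ((p.1 : ℤ), (p.2 : ℤ)) = (a, b)
    simp
  · exact isWeightedHomogeneous_zero _ _ _

theorem dv_add (p : ℕ × ℕ) (P Q : RelRing g) : dv g p (P + Q) = dv g p P + dv g p Q := by
  unfold dv; split_ifs <;> simp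

theorem dv_smul (p : ℕ × ℕ) (c : ℚ) (P : RelRing g) : dv g p (c • P) = c • dv g p P := by
  unfold dv; split_ifs <;> simp

theorem F_add (P Q : RelRing g) : F g (P + Q) = F g P + F g Q := by
  unfold F
  simp only [dv_add, mul_add, Finset.sum_add_distrib, smul_add]
  abel

theorem F_smul (c : ℚ) (P : RelRing g) : F g (c • P) = c • F g P := by
  unfold F
  simp only [dv_smul, mul_smul_comm, ← Finset.smul_sum, smul_add, smul_comm c (1 / 2 : ℚ)]

theorem hom_F {P : RelRing g} {a b : ℤ} (hP : Hom g P a b) : Hom g (F g P) (a - 2) b := by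
  have hy : Hom g (X none : RelRing g) 0 2 := isWeightedHomogeneous_X (R := ℚ) (wz g) none
  unfold F
  refine IsWeightedHomogeneous.add ?_ ?_
  · rw [show (1 / 2 : ℚ) = (1 / 2 : ℚ) from rfl, MvPolynomial.smul_eq_C_mul]
    have e : ((a - 2, b) : ℤ × ℤ) = 0 + (a - 2, b) := (zero_add _).symm
    show IsWeightedHomogeneous (wz g) _ ((a - 2, b) : ℤ × ℤ)
    rw [e]
    refine (isWeightedHomogeneous_C _ _).mul (IsWeightedHomogeneous.sum _ _ _ fun p _ =>
      IsWeightedHomogeneous.sum _ _ _ fun q _ => ?_)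
    have h2 := hom_dv (hom_dv hP q) p
    have h1 : Hom g (X none * xv g ((p.1 : ℤ) - 1) ((p.2 : ℤ) - 1) * xv g ((q.1 : ℤ) - 1) ((q.2 : ℤ) - 1))
        ((p.1 : ℤ) + q.1 - 2) ((p.2 : ℤ) + q.2) := by
      have := ((hy.mul (hom_xv (g := g) ((p.1 : ℤ) - 1) ((p.2 : ℤ) - 1))).mul
        (hom_xv (g := g) ((q.1 : ℤ) - 1) ((q.2 : ℤ) - 1)))
      refine (congrArg (IsWeightedHomogeneous (wz g) _) ?_).mp this
      simp only [Prod.mk_add_mk]
      ext <;> dsimp only <;> ring
    have h3 : Hom g ((mergeCoeff p.1 q.1 : RelRing g) * xv g ((p.1 : ℤ) + q.1 - 2) ((p.2 : ℤ) + q.2))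
        ((p.1 : ℤ) + q.1 - 2) ((p.2 : ℤ) + q.2) := by
      rw [show (mergeCoeff p.1 q.1 : RelRing g) = C (mergeCoeff p.1 q.1 : ℚ) from (map_natCast C _).symm]
      have := (isWeightedHomogeneous_C (wz g) (mergeCoeff p.1 q.1 : ℚ)).mul
        (hom_xv (g := g) ((p.1 : ℤ) + q.1 - 2) ((p.2 : ℤ) + q.2))
      rw [zero_add] at this
      exact this
    have := (h1.sub h3).mul h2
    refine (congrArg (IsWeightedHomogeneous (wz g) _) ?_).mp this
    simp only [Prod.mk_add_mk]
    ext <;> dsimp only <;> ring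
  · refine IsWeightedHomogeneous.sum _ _ _ fun p _ => ?_
    have := (hom_xv (g := g) ((p.1 : ℤ) - 2) (p.2 : ℤ)).mul (hom_dv hP p)
    refine (congrArg (IsWeightedHomogeneous (wz g) _) ?_).mp this
    simp only [Prod.mk_add_mk]
    ext <;> dsimp only <;> ring

theorem wz_nonneg (d : Var g →₀ ℕ) : 0 ≤ (Finsupp.weight (wz g) d).1 := by
  rw [Finsupp.weight_apply, Finsupp.sum, Prod.fst_sum]
  refine Finset.sum_nonneg fun v _ => ?_
  rcases v with _ | v <;> simp [wz] <;> positivity

theorem eq_zero_of_neg {P : RelRing g} {a b : ℤ} (hP : Hom g P a b) (ha : a < 0) : P = 0 := by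
  ext d
  rw [coeff_zero]
  by_contra hd
  have := wz_nonneg d
  rw [hP hd] at this
  exact absurd this (not_le.mpr ha)

theorem hom_iterate {P : RelRing g} {a b : ℤ} (hP : Hom g P a b) :
    ∀ s : ℕ, Hom g ((F g)^[s] P) (a - 2 * s) b := by
  intro s
  induction s with
  | zero => simpa using hP
  | succ s ih =>
    rw [Function.iterate_succ_apply']
    refine (congrArg (IsWeightedHomogeneous (wz g) _) ?_).mp (hom_F ih)
    ext <;> dsimp only <;> push_cast <;> ring

theorem valid20 (hg : 1 ≤ g) : Valid g (2, 0) := ⟨le_rfl, by omega, ⟨1, rfl⟩, by simp⟩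

theorem mem_idx {p : ℕ × ℕ} (h : Valid g p) : p ∈ idx g := by
  obtain ⟨h1, h2, -, -⟩ := h
  simp only [idx, Finset.mem_product, Finset.mem_range]
  omega

theorem xv20 (hg : 1 ≤ g) : xv g 2 0 = X (some ⟨(2, 0), valid20 hg⟩) := by
  unfold xv
  rw [if_neg (by norm_num), dif_pos ⟨by norm_num, by norm_num, valid20 hg⟩]
  rfl

theorem dv_E (hg : 1 ≤ g) (p : ℕ × ℕ) (P : RelRing g) :
    dv g p (E g P) = (if p = (2, 0) then P else 0) + E g (dv g p P) := by
  unfold dv E
  rw [xv20 hg]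
  split_ifs with h h' h'
  · subst h'
    rw [pderiv_mul, pderiv_X_self, one_mul]
  · rw [pderiv_mul, pderiv_X_of_ne (by intro hc; exact h' (by simpa using (Subtype.ext_iff.1 (Option.some.inj hc)).symm)),
      zero_mul]
  · exact absurd (h' ▸ valid20 hg) h
  · simp

theorem euler {P : RelRing g} {a b : ℤ} (hP : Hom g P a b) :
    ∑ p ∈ idx g, (p.1 : RelRing g) * xv g (p.1 : ℤ) (p.2 : ℤ) * dv g p P = C (a : ℚ) * P := by
  conv_lhs => rw [P.as_sum]
  conv_rhs => rw [P.as_sum]
  have hd : ∀ (p : ℕ × ℕ) (s : Finset (Var g →₀ ℕ)) (f : (Var g →₀ ℕ) → RelRing g),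
      dv g p (∑ d ∈ s, f d) = ∑ d ∈ s, dv g p (f d) := fun p s f => by
    unfold dv; split_ifs <;> simp
  simp only [hd, Finset.mul_sum]
  rw [Finset.sum_comm]
  refine Finset.sum_congr rfl fun d hd' => ?_
  have key : ∀ p ∈ idx g, (p.1 : RelRing g) * xv g (p.1 : ℤ) (p.2 : ℤ) * dv g p (monomial d (coeff d P)) =
      monomial d (if h : Valid g p then ((p.1 * d (some ⟨p, h⟩) : ℕ) : ℚ) * coeff d P else 0) := fun p _ => by
    unfold dv
    split_ifs with h
    · have hx : xv g (p.1 : ℤ) (p.2 : ℤ) = X (some ⟨p, h⟩) := by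
        unfold xv
        rw [if_neg (fun hc => h.2.2.2 (by ext <;> simp <;> omega)),
          dif_pos ⟨Int.natCast_nonneg _, Int.natCast_nonneg _, by simpa using h⟩]
        simp
      rw [hx, mul_assoc, X_mul_pderiv_monomial, ← nsmul_eq_mul, smul_smul, ← map_nsmul, nsmul_eq_mul]
    · simp
  rw [Finset.sum_congr rfl key, ← map_sum, C_mul_monomial]
  congr 1
  have hw : (Finsupp.weight (wz g) d).1 = a := congrArg Prod.fst (hP (by simpa [mem_support_iff] using hd'))
  rw [← hw, Finsupp.weight_apply, Finsupp.sum, Prod.fst_sum]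
  classical
  let f : ℕ × ℕ → ℕ := fun p => if h : Valid g p then p.1 * d (some ⟨p, h⟩) else 0
  have hl : ∀ p, (if h : Valid g p then ((p.1 * d (some ⟨p, h⟩) : ℕ) : ℚ) * coeff d P else 0) =
      (f p : ℚ) * coeff d P := fun p => by
    simp only [f]; split_ifs <;> simp
  simp only [hl, ← Finset.sum_mul]
  congr 1
  have hr : ∀ v : Var g, ((d v • wz g v).1 : ℚ) = (v.elim 0 (fun p => (f p.1 : ℚ))) := fun v => by
    rcases v with _ | p
    · simp [wz]
    · simp [wz, f, p.2, mul_comm]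
  push_cast [Finset.sum_congr rfl (fun v (_ : v ∈ d.support) => hr v)]
  symm
  refine Finset.sum_bij_ne_zero (fun v _ hv => v.elim (0, 0) (fun p => p.1)) ?_ ?_ ?_ ?_
  · intro v _ hv
    rcases v with _ | p
    · simp at hv
    · exact mem_idx p.2
  · intro v _ hv v' _ hv' he
    rcases v with _ | p <;> rcases v' with _ | p' <;> simp_all
    exact Subtype.ext he
  · intro p _ hp
    simp only [f] at hp
    split_ifs at hp with h
    · refine ⟨some ⟨p, h⟩, ?_, ?_, rfl⟩
      · rw [Finsupp.mem_support_iff]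
        intro h0; simp [h0] at hp
      · simpa [f, h] using hp
    · simp at hp
  · intro v _ hv
    rcases v with _ | p
    · simp at hv
    · rfl

theorem mergeCoeff_two_left (k : ℕ) : mergeCoeff 2 k = k := by
  unfold mergeCoeff
  rcases Nat.eq_zero_or_pos k with rfl | hk
  · simp
  · rw [if_neg (by omega), show 2 + k - 2 = k by omega]; simp

theorem mergeCoeff_two_right (k : ℕ) : mergeCoeff k 2 = k := by
  unfold mergeCoeff
  rcases Nat.eq_zero_or_pos k with rfl | hk
  · simp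
  · rw [if_neg (by omega), show k + 2 - 2 = (k - 1) + 1 by omega, Nat.choose_succ_self_right]
    omega

theorem F_E (hg : 1 ≤ g) {P : RelRing g} {a b : ℤ} (hP : Hom g P a b) :
    F g (E g P) = E g (F g P) + C ((g : ℚ) - a) * P := by
  classical
  let c : ℕ × ℕ → ℕ × ℕ → RelRing g := fun p q =>
    X none * xv g ((p.1 : ℤ) - 1) ((p.2 : ℤ) - 1) * xv g ((q.1 : ℤ) - 1) ((q.2 : ℤ) - 1)
        - (mergeCoeff p.1 q.1 : RelRing g) * xv g ((p.1 : ℤ) + q.1 - 2) ((p.2 : ℤ) + q.2)
  have hneg : xv g ((2 : ℤ) - 1) (-1) = 0 := by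
    unfold xv
    rw [if_neg (by norm_num), dif_neg (by norm_num)]
  have hcl : ∀ q : ℕ × ℕ, c (2, 0) q = - ((q.1 : RelRing g) * xv g q.1 q.2) := fun q => by
    simp only [c, Nat.cast_ofNat, Nat.cast_zero, mergeCoeff_two_left, zero_sub, hneg, mul_zero, zero_mul, zero_sub,
      add_sub_cancel_left, zero_add]
  have hcr : ∀ q : ℕ × ℕ, c q (2, 0) = - ((q.1 : RelRing g) * xv g q.1 q.2) := fun q => by
    simp only [c, Nat.cast_ofNat, Nat.cast_zero, mergeCoeff_two_right, zero_sub, hneg, mul_zero, zero_mul, zero_sub,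
      add_sub_cancel_right, add_zero]
  have hEul : ∀ f : ℕ × ℕ → RelRing g, (∀ q, f q = - ((q.1 : RelRing g) * xv g q.1 q.2)) →
      ∑ q ∈ idx g, f q * dv g q P = - (C (a : ℚ) * P) := fun f hf => by
    rw [← euler hP, ← Finset.sum_neg_distrib]
    exact Finset.sum_congr rfl fun q _ => by rw [hf, neg_mul]
  have hdd : ∀ p q, dv g p (dv g q (E g P)) =
      (if q = (2, 0) then dv g p P else 0) + ((if p = (2, 0) then dv g q P else 0) + E g (dv g p (dv g q P))) :=
    fun p q => by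
      rw [dv_E hg, dv_add, dv_E hg]
      congr 1
      split_ifs
      · rfl
      · unfold dv; split_ifs <;> simp
  have hm := mem_idx (valid20 hg)
  have h1 : ∑ p ∈ idx g, ∑ q ∈ idx g, c p q * dv g p (dv g q (E g P)) =
      E g (∑ p ∈ idx g, ∑ q ∈ idx g, c p q * dv g p (dv g q P)) - 2 * (C (a : ℚ) * P) := by
    simp only [hdd, mul_add, Finset.sum_add_distrib, mul_ite, mul_zero]
    have e1 : ∑ p ∈ idx g, ∑ q ∈ idx g, (if q = (2, 0) then c p q * dv g p P else 0) = - (C (a : ℚ) * P) := by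
      simp only [Finset.sum_ite_eq', if_pos hm]
      exact hEul _ hcr
    have e2 : ∑ p ∈ idx g, ∑ q ∈ idx g, (if p = (2, 0) then c p q * dv g q P else 0) = - (C (a : ℚ) * P) := by
      rw [Finset.sum_comm]
      simp only [Finset.sum_ite_eq', if_pos hm]
      exact hEul _ hcl
    rw [e1, e2]
    simp only [E, Finset.mul_sum, mul_left_comm (xv g 2 0)]
    ring
  have h00 : xv g 0 0 = C (g : ℚ) := by
    unfold xv
    rw [if_pos ⟨rfl, rfl⟩, map_natCast]
  have h2 : ∑ p ∈ idx g, xv g ((p.1 : ℤ) - 2) (p.2 : ℤ) * dv g p (E g P) =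
      E g (∑ p ∈ idx g, xv g ((p.1 : ℤ) - 2) (p.2 : ℤ) * dv g p P) + C (g : ℚ) * P := by
    simp only [dv_E hg, mul_add, Finset.sum_add_distrib, mul_ite, mul_zero, Finset.sum_ite_eq', if_pos hm]
    simp only [E, Finset.mul_sum, mul_left_comm (xv g 2 0), Nat.cast_ofNat, Nat.cast_zero, sub_self, h00]
    ring
  show (1 / 2 : ℚ) • (∑ p ∈ idx g, ∑ q ∈ idx g, c p q * dv g p (dv g q (E g P)))
      + ∑ p ∈ idx g, xv g ((p.1 : ℤ) - 2) (p.2 : ℤ) * dv g p (E g P) = _
  rw [h1, h2]
  show _ = E g ((1 / 2 : ℚ) • (∑ p ∈ idx g, ∑ q ∈ idx g, c p q * dv g p (dv g q P))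
      + ∑ p ∈ idx g, xv g ((p.1 : ℤ) - 2) (p.2 : ℤ) * dv g p P) + _
  have e3 : (1 / 2 : ℚ) • (2 * (C (a : ℚ) * P)) = C (a : ℚ) * P := by
    rw [show (2 : RelRing g) = C (2 : ℚ) from (map_ofNat C 2).symm, smul_eq_C_mul, ← mul_assoc, ← map_mul]
    norm_num
  simp only [smul_sub, e3, E, mul_add, mul_smul_comm, map_sub]
  ring

theorem hom_E_pow (hg : 1 ≤ g) {Q : RelRing g} {a b : ℤ} (hQ : Hom g Q a b) :
    ∀ k : ℕ, Hom g ((E g)^[k] Q) (a + 2 * k) b := by
  intro k
  induction k with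
  | zero => simpa using hQ
  | succ k ih =>
    rw [Function.iterate_succ_apply']
    refine (congrArg (IsWeightedHomogeneous (wz g) _) ?_).mp ((hom_xv (g := g) 2 0).mul ih)
    simp only [Prod.mk_add_mk]
    ext <;> dsimp only <;> push_cast <;> ring

theorem F_E_pow (hg : 1 ≤ g) {Q : RelRing g} {a b : ℤ} (hQ : Hom g Q a b) : ∀ k : ℕ,
    F g ((E g)^[k + 1] Q) =
      (E g)^[k + 1] (F g Q) + C (((k : ℚ) + 1) * ((g : ℚ) - a - k)) * (E g)^[k] Q := by
  intro k
  induction k with
  | zero =>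
    simp only [zero_add, Function.iterate_one, Function.iterate_zero, id_eq, Nat.cast_zero, one_mul, sub_zero]
    exact F_E hg hQ
  | succ k ih =>
    rw [Function.iterate_succ_apply' (n := k + 1), F_E hg (hom_E_pow hg hQ (k + 1)), ih,
      Function.iterate_succ_apply' (n := k + 1) (x := F g Q)]
    simp only [E, mul_add, Function.iterate_succ_apply' (n := k) (x := Q)]
    push_cast
    simp only [map_mul, map_sub, map_add, map_one, map_natCast, map_ofNat]
    ring

/-- the coefficient of `F^[k+r] (E^[k] Q)` on `F^[r] Q` for `Q` of first degree `2r`. -/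
def A (g k r : ℕ) : ℚ := ((k + r).descFactorial k : ℚ) * ∏ t ∈ Finset.range k, ((g : ℚ) - r - t)

theorem A_succ_succ (k r : ℕ) :
    A g (k + 1) (r + 1) = A g (k + 1) r + ((k : ℚ) + 1) * ((g : ℚ) - 2 * (r + 1) - k) * A g k (r + 1) := by
  unfold A
  have e1 : (k + 1 + (r + 1)).descFactorial (k + 1) =
      (k + r + 2) * (k + r + 1).descFactorial k := by
    rw [show k + 1 + (r + 1) = (k + r + 1) + 1 by ring, Nat.succ_descFactorial_succ]
  have e2 : (k + 1 + r).descFactorial (k + 1) = (r + 1) * (k + r + 1).descFactorial k := by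
    rw [Nat.descFactorial_succ, show k + 1 + r = k + r + 1 by ring, show k + r + 1 - k = r + 1 by omega]
  have e4 : ∏ t ∈ Finset.range (k + 1), ((g : ℚ) - r - t) =
      (∏ t ∈ Finset.range k, ((g : ℚ) - (r + 1 : ℕ) - t)) * ((g : ℚ) - r) := by
    rw [Finset.prod_range_succ']
    push_cast
    rw [sub_zero]
    congr 1
    exact Finset.prod_congr rfl fun t _ => by ring
  rw [e1, e2, e4, Finset.prod_range_succ, show k + (r + 1) = k + r + 1 by ring]
  push_cast
  ring

theorem iterate_add (s : ℕ) (P Q : RelRing g) : (F g)^[s] (P + Q) = (F g)^[s] P + (F g)^[s] Q := by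
  induction s generalizing P Q with
  | zero => rfl
  | succ s ih => simp only [Function.iterate_succ_apply, F_add, ih]

theorem iterate_C_mul (s : ℕ) (c : ℚ) (P : RelRing g) : (F g)^[s] (C c * P) = C c * (F g)^[s] P := by
  induction s generalizing P with
  | zero => rfl
  | succ s ih => simp only [Function.iterate_succ_apply, ← smul_eq_C_mul, F_smul]; simp only [smul_eq_C_mul, ih]

theorem iterate_E (hg : 1 ≤ g) : ∀ (N k r : ℕ), k + r = N → ∀ (Q : RelRing g) (b : ℤ),
    Hom g Q (2 * r) b → (F g)^[N] ((E g)^[k] Q) = C (A g k r) * (F g)^[r] Q := by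
  intro N
  induction N with
  | zero =>
    intro k r h Q b _
    obtain ⟨rfl, rfl⟩ : k = 0 ∧ r = 0 := ⟨by omega, by omega⟩
    simp [A]
  | succ N ih =>
    intro k r h Q b hQ
    rcases k with _ | k
    · obtain rfl : r = N + 1 := by omega
      simp [A]
    rw [Function.iterate_succ_apply, F_E_pow hg hQ, iterate_add, iterate_C_mul]
    rcases r with _ | r
    · have h0 : F g Q = 0 := eq_zero_of_neg (hom_F hQ) (by norm_num)
      have hz : ∀ j, (E g)^[j] (0 : RelRing g) = 0 := fun j => by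
        induction j with
        | zero => rfl
        | succ j hj => rw [Function.iterate_succ_apply', hj, E, mul_zero]
      have hFz : (F g)^[N] (0 : RelRing g) = 0 := by
        simpa using iterate_C_mul (g := g) N 0 0
      rw [h0, hz, hFz, zero_add, ih k 0 (by omega) Q b hQ, ← mul_assoc, ← map_mul]
      congr 2
      unfold A
      simp only [Nat.add_zero, Nat.descFactorial_self, Finset.prod_range_succ, Nat.factorial_succ]
      push_cast
      ring
    · have hFQ : Hom g (F g Q) (2 * (r : ℕ)) b := by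
        refine (congrArg (IsWeightedHomogeneous (wz g) _) ?_).mp (hom_F hQ)
        ext <;> dsimp only <;> push_cast <;> ring
      rw [ih (k + 1) r (by omega) (F g Q) b hFQ, ih k (r + 1) (by omega) Q b hQ,
        ← Function.iterate_succ_apply, ← mul_assoc, ← map_mul, ← add_mul, ← map_add, A_succ_succ]
      congr 2
      push_cast
      ring

theorem A_eq_zero (k r : ℕ) (h1 : r ≤ g) (h2 : g < k + r) : A g k r = 0 := by
  unfold A
  rw [mul_eq_zero]
  right
  refine Finset.prod_eq_zero (i := g - r) (Finset.mem_range.2 (by omega)) ?_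
  rw [Nat.cast_sub h1]
  ring

theorem weight_bound (hg : 1 ≤ g) (d : Var g →₀ ℕ) :
    (Finsupp.weight (wz g) d).1 - 2 * d (some ⟨(2, 0), valid20 hg⟩) ≤ 3 * (Finsupp.weight (wz g) d).2 := by
  classical
  have hs : ∀ v : Var g, (wz g v).1 ≤ 3 * (wz g v).2 + if v = some ⟨(2, 0), valid20 hg⟩ then 2 else 0 := by
    rintro (_ | ⟨⟨i, j⟩, hv⟩)
    · simp [wz]
    · obtain ⟨h1, h2, ⟨t, ht⟩, h4⟩ := hv
      simp only [wz, Option.some.injEq, Subtype.mk.injEq, Prod.mk.injEq, ne_eq] at h1 h2 ht h4 ⊢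
      split_ifs with h <;> omega
  rw [Finsupp.weight_apply, Finsupp.sum, Prod.fst_sum, Prod.snd_sum, Finset.mul_sum, sub_le_iff_le_add]
  refine le_trans (Finset.sum_le_sum fun v _ => show (d v • wz g v).1 ≤ 3 * (d v • wz g v).2 +
    (d v : ℤ) * (if v = some ⟨(2, 0), valid20 hg⟩ then 2 else 0) from ?_) ?_
  · rw [Prod.smul_fst, Prod.smul_snd, nsmul_eq_mul, nsmul_eq_mul]
    nlinarith [hs v, (Int.natCast_nonneg (d v))]
  · rw [Finset.sum_add_distrib, add_le_add_iff_left]
    simp only [mul_ite, mul_zero, Finset.sum_ite_eq']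
    split_ifs <;> omega

theorem iterate_monomial_eq_zero (hg : 1 ≤ g) (d : Var g →₀ ℕ) (s : ℕ)
    (ha : (Finsupp.weight (wz g) d).1 = 2 * s) (hs : g < s)
    (hb : 3 * (Finsupp.weight (wz g) d).2 ≤ 2 * g) :
    (F g)^[s] (monomial d (1 : ℚ)) = 0 := by
  classical
  set v : Var g := some ⟨(2, 0), valid20 hg⟩ with hv
  set k := d v
  have hE : ∀ (j : ℕ) (Q : RelRing g), (E g)^[j] Q = X v ^ j * Q := fun j Q => by
    induction j with
    | zero => simp
    | succ j ih => rw [Function.iterate_succ_apply', ih, E, xv20 hg, pow_succ]; ring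
  have hd : monomial d (1 : ℚ) = (E g)^[k] (monomial (d.erase v) 1) := by
    rw [hE, X_pow_eq_monomial, monomial_mul, one_mul, Finsupp.single_add_erase]
  have hw : Finsupp.weight (wz g) d = k • wz g v + Finsupp.weight (wz g) (d.erase v) := by
    conv_lhs => rw [← Finsupp.single_add_erase v d, map_add, Finsupp.weight_single]
  have hbd := weight_bound hg d
  have hq1 : (Finsupp.weight (wz g) (d.erase v)).1 = 2 * (s : ℤ) - 2 * k := by
    have := congrArg Prod.fst hw
    rw [Prod.fst_add, Prod.smul_fst, nsmul_eq_mul, ha, show (wz g v).1 = 2 from rfl] at this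
    push_cast at this
    linarith
  have hnn := wz_nonneg (d.erase v)
  rw [hq1] at hnn
  have hks : k ≤ s := by omega
  obtain ⟨r, rfl⟩ := Nat.exists_eq_add_of_le hks
  have hQ : Hom g (monomial (d.erase v) (1 : ℚ)) (2 * r) (Finsupp.weight (wz g) (d.erase v)).2 := by
    refine isWeightedHomogeneous_monomial _ _ _ (Prod.ext ?_ rfl)
    rw [hq1]; push_cast; ring
  rw [hd, iterate_E hg (k + r) k r rfl _ _ hQ, A_eq_zero k r ?_ hs, map_zero, zero_mul]
  rw [ha, show d (some ⟨(2, 0), valid20 hg⟩) = k from rfl] at hbd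
  push_cast at hbd
  omega

end W4c3tautjacobian.Low
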