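import Groth.Agent.TautRelLib.Sl2

/-! The relation expressing `x 0 (2 i)` through lower generators. -/

set_option autoImplicit false

open MvPolynomial W4c3tautjacobian

namespace TautRelLib

variable {g : ℕ}

/-- Sign coherence on the `y`-free part, supported on symbols of positive second index. -/
def Good (P : RelRing g) : Prop :=
  ∀ d, coeff d P ≠ 0 → d none = 0 →
    0 ≤ (-1 : ℚ) ^ Finsupp.degree d * coeff d P ∧ ∀ v : {p : ℕ × ℕ // Valid g p}, d (some v) ≠ 0 → 1 ≤ v.1.2

theorem good_zero : Good (0 : RelRing g) := fun d h => absurd (coeff_zero d) h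

theorem good_add {P Q : RelRing g} (hP : Good P) (hQ : Good Q) : Good (P + Q) := by
  intro d hd h0
  rw [coeff_add] at hd ⊢
  by_cases h1 : coeff d P = 0
  · rw [h1, zero_add] at hd ⊢; exact hQ d hd h0
  by_cases h2 : coeff d Q = 0
  · rw [h2, add_zero] at hd ⊢; exact hP d hd h0
  exact ⟨by rw [mul_add]; exact add_nonneg (hP d h1 h0).1 (hQ d h2 h0).1, (hP d h1 h0).2⟩

theorem good_sum {ι : Type*} (s : Finset ι) (f : ι → RelRing g) (h : ∀ i ∈ s, Good (f i)) : Good (∑ i ∈ s, f i) := by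
  classical
  induction s using Finset.induction_on with
  | empty => exact good_zero
  | insert a s ha ih =>
    rw [Finset.sum_insert ha]
    exact good_add (h a (Finset.mem_insert_self a s)) (ih fun i hi => h i (Finset.mem_insert_of_mem hi))

theorem good_smul {P : RelRing g} (hP : Good P) {r : ℚ} (hr : 0 ≤ r) : Good (r • P) := by
  intro d hd h0
  rw [coeff_smul, smul_eq_mul] at hd ⊢
  obtain ⟨h1, h2⟩ := hP d (right_ne_zero_of_mul hd) h0
  exact ⟨by rw [mul_left_comm]; exact mul_nonneg hr h1, h2⟩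

theorem good_y_mul (Q : RelRing g) : Good (X none * Q) := by
  intro d hd h0
  rw [coeff_X_mul', if_neg (by simp [h0])] at hd
  exact absurd rfl hd

theorem good_monomial {d : Var g →₀ ℕ} {a : ℚ}
    (h : d none = 0 → 0 ≤ (-1 : ℚ) ^ Finsupp.degree d * a ∧ ∀ v : {p : ℕ × ℕ // Valid g p}, d (some v) ≠ 0 → 1 ≤ v.1.2) :
    Good (monomial d a) := by
  classical
  intro e he h0
  rw [coeff_monomial] at he ⊢
  obtain rfl : d = e := by_contra fun hne => he (if_neg hne)
  rw [if_pos rfl]
  exact h h0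

theorem degree_sub_single {d : Var g →₀ ℕ} {o : Var g} (h : d o ≠ 0) :
    Finsupp.degree (d - Finsupp.single o 1) + 1 = Finsupp.degree d := by
  conv_rhs => rw [← tsub_add_cancel_of_le (Finsupp.single_le_iff.2 (Nat.one_le_iff_ne_zero.2 h) : Finsupp.single o 1 ≤ d)]
  simp [map_add, Finsupp.degree_single]

theorem sub_single_ne {d : Var g →₀ ℕ} {o o' : Var g} (h : (d - Finsupp.single o 1 : Var g →₀ ℕ) o' ≠ 0) : d o' ≠ 0 := by
  rw [Finsupp.tsub_apply] at h; omega

theorem sub_single_none {d : Var g →₀ ℕ} {v : {p : ℕ × ℕ // Valid g p}} :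
    (d - Finsupp.single (some v) 1 : Var g →₀ ℕ) none = d none := by simp

/-- A symbol times an allowed monomial. -/
theorem good_xv_mul {a b : ℤ} (hb : 1 ≤ b) {d : Var g →₀ ℕ} {r : ℚ}
    (h : d none = 0 → (-1 : ℚ) ^ Finsupp.degree d * r ≤ 0 ∧ ∀ v : {p : ℕ × ℕ // Valid g p}, d (some v) ≠ 0 → 1 ≤ v.1.2) :
    Good (xv g a b * monomial d r) := by
  classical
  unfold xv
  rw [if_neg (by omega)]
  split_ifs with hv
  · rw [X, monomial_mul, one_mul]
    refine good_monomial fun h0 => ?_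
    obtain ⟨h1, h2⟩ := h (by simpa using h0)
    refine ⟨?_, fun v hv' => ?_⟩
    · rw [map_add, Finsupp.degree_single, pow_add, pow_one]; linarith
    · rcases eq_or_ne v ⟨(a.toNat, b.toNat), hv.2.2⟩ with rfl | hne
      · show 1 ≤ b.toNat; omega
      · exact h2 v (by simpa [hne, Ne.symm hne] using hv')
  · rw [zero_mul]; exact good_zero

theorem dv_monomial {p : ℕ × ℕ} (hp : Valid g p) (d : Var g →₀ ℕ) (a : ℚ) :
    dv g p (monomial d a) = monomial (d - Finsupp.single (some ⟨p, hp⟩) 1) (a * (d (some ⟨p, hp⟩) : ℚ)) := by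
  rw [dv_valid hp, pderiv_monomial]

theorem dv_dv_monomial {p q : ℕ × ℕ} (hp : Valid g p) (hq : Valid g q) (d : Var g →₀ ℕ) (a : ℚ) :
    dv g p (dv g q (monomial d a)) = monomial (d - Finsupp.single (some ⟨q, hq⟩) 1 - Finsupp.single (some ⟨p, hp⟩) 1)
      (a * (d (some ⟨q, hq⟩) : ℚ) * ((d - Finsupp.single (some ⟨q, hq⟩) 1 : Var g →₀ ℕ) (some ⟨p, hp⟩) : ℚ)) := by
  rw [dv_monomial hq, dv_monomial hp]

/-- The second-order term of `F` at a monomial. -/
noncomputable def term2 (d : Var g →₀ ℕ) (a : ℚ) (p q : ℕ × ℕ) : RelRing g :=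
  (X none * xv g ((p.1 : ℤ) - 1) ((p.2 : ℤ) - 1) * xv g ((q.1 : ℤ) - 1) ((q.2 : ℤ) - 1)
    - (mergeCoeff p.1 q.1 : RelRing g) * xv g ((p.1 : ℤ) + q.1 - 2) ((p.2 : ℤ) + q.2)) * dv g p (dv g q (monomial d a))

/-- The first-order term of `F` at a monomial. -/
noncomputable def term1 (d : Var g →₀ ℕ) (a : ℚ) (p : ℕ × ℕ) : RelRing g :=
  xv g ((p.1 : ℤ) - 2) (p.2 : ℤ) * dv g p (monomial d a)

theorem F_monomial (d : Var g →₀ ℕ) (a : ℚ) :
    F g (monomial d a) = (1 / 2 : ℚ) • (∑ p ∈ idx g, ∑ q ∈ idx g, term2 d a p q) + ∑ p ∈ idx g, term1 d a p := rfl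

variable {d : Var g →₀ ℕ} {a : ℚ}
  (h : d none = 0 → 0 ≤ (-1 : ℚ) ^ Finsupp.degree d * a ∧ ∀ v : {p : ℕ × ℕ // Valid g p}, d (some v) ≠ 0 → 1 ≤ v.1.2)

include h in
theorem good_term2 (p q : ℕ × ℕ) : Good (term2 d a p q) := by
  unfold term2
  by_cases hp : Valid g p
  swap
  · rw [dv_not hp, mul_zero]; exact good_zero
  by_cases hq : Valid g q
  swap
  · rw [dv_not hq, dv_zero, mul_zero]; exact good_zero
  rw [dv_dv_monomial hp hq, sub_mul, mul_assoc, mul_assoc, sub_eq_add_neg]
  refine good_add (good_y_mul _) ?_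
  set d1 := d - Finsupp.single (some ⟨q, hq⟩) 1 with hd1
  set e := d1 - Finsupp.single (some ⟨p, hp⟩) 1 with he
  set r : ℚ := a * (d (some ⟨q, hq⟩) : ℚ) * (d1 (some ⟨p, hp⟩) : ℚ) with hr
  rw [← neg_mul, ← neg_mul, ← map_natCast (C : ℚ →+* RelRing g), ← map_neg, mul_assoc, ← MvPolynomial.smul_eq_C_mul, ← mul_smul_comm,
    smul_monomial, smul_eq_mul]
  by_cases hz : d (some ⟨q, hq⟩) = 0 ∨ d1 (some ⟨p, hp⟩) = 0
  · rw [show r = 0 by rcases hz with hz | hz <;> simp [hr, hz], mul_zero, map_zero, mul_zero]; exact good_zero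
  push Not at hz
  by_cases h0 : d none = 0
  · obtain ⟨hs, hj⟩ := h h0
    have hj1 := hj _ hz.1
    dsimp only at hj1
    refine good_xv_mul (by omega) fun _ => ⟨?_, fun v hv => hj v (sub_single_ne (sub_single_ne hv))⟩
    have e1 := degree_sub_single hz.2
    have e2 := degree_sub_single hz.1
    rw [← hd1] at e2; rw [← he] at e1
    have hpow : (-1 : ℚ) ^ Finsupp.degree e = (-1 : ℚ) ^ Finsupp.degree d := by
      rw [show Finsupp.degree d = Finsupp.degree e + 2 by omega, pow_add]; norm_num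
    rw [hpow, hr]
    have : (0 : ℚ) ≤ (mergeCoeff p.1 q.1 : ℚ) * (d (some ⟨q, hq⟩) : ℚ) * (d1 (some ⟨p, hp⟩) : ℚ) := by positivity
    nlinarith [mul_nonneg hs this]
  · intro e' he' h0'
    exfalso
    apply he'
    rw [coeff_mul_monomial', if_neg]
    intro hle
    have := hle none
    rw [he, hd1] at this
    simp at this
    omega

include h in
theorem good_term1 (p : ℕ × ℕ) : Good (term1 d a p) := by
  unfold term1
  by_cases hp : Valid g p
  swap
  · rw [dv_not hp, mul_zero]; exact good_zero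
  rw [dv_monomial hp]
  by_cases hz : d (some ⟨p, hp⟩) = 0
  · rw [hz, Nat.cast_zero, mul_zero, map_zero, mul_zero]; exact good_zero
  by_cases h0 : d none = 0
  · obtain ⟨hs, hj⟩ := h h0
    have hj1 := hj _ hz
    dsimp only at hj1
    refine good_xv_mul (by omega) fun _ => ⟨?_, fun v hv => hj v (sub_single_ne hv)⟩
    rw [← degree_sub_single hz, pow_succ] at hs
    have : (0 : ℚ) ≤ (d (some ⟨p, hp⟩) : ℚ) := by positivity
    nlinarith [mul_nonneg hs this]
  · intro e' he' h0'
    exfalso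
    apply he'
    rw [coeff_mul_monomial', if_neg]
    intro hle
    have := hle none
    simp at this
    omega

include h in
theorem good_F_monomial : Good (F g (monomial d a)) := by
  rw [F_monomial]
  exact good_add (good_smul (good_sum _ _ fun p _ => good_sum _ _ fun q _ => good_term2 h p q) (by norm_num))
    (good_sum _ _ fun p _ => good_term1 h p)

include h in
theorem good_sub_term2 {p q : ℕ × ℕ} (hp : p ∈ idx g) (hq : q ∈ idx g) :
    Good (F g (monomial d a) - (1 / 2 : ℚ) • term2 d a p q) := by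
  rw [F_monomial, ← Finset.add_sum_erase _ _ hp, ← Finset.add_sum_erase (idx g) (term2 d a p) hq, smul_add, smul_add,
    add_assoc, add_assoc, add_sub_cancel_left]
  exact good_add (good_smul (good_sum _ _ fun q _ => good_term2 h p q) (by norm_num))
    (good_add (good_smul (good_sum _ _ fun p _ => good_sum _ _ fun q _ => good_term2 h p q) (by norm_num))
      (good_sum _ _ fun p _ => good_term1 h p))

include h in
theorem good_sub_term1 {p : ℕ × ℕ} (hp : p ∈ idx g) : Good (F g (monomial d a) - term1 d a p) := by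
  rw [F_monomial, ← Finset.add_sum_erase (idx g) (term1 d a) hp, ← add_assoc, add_sub_right_comm, add_sub_cancel_right]
  exact good_add (good_smul (good_sum _ _ fun p _ => good_sum _ _ fun q _ => good_term2 h p q) (by norm_num))
    (good_sum _ _ fun p _ => good_term1 h p)

omit h

theorem good_F {P : RelRing g} (hP : Good P) : Good (F g P) := by
  classical
  let f : RelRing g →+ RelRing g := { toFun := F g, map_zero' := F_zero, map_add' := F_add }
  rw [P.as_sum]
  change Good (f _)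
  rw [map_sum]
  exact good_sum _ _ fun d hd => good_F_monomial fun h0 => hP d (mem_support_iff.1 hd) h0

theorem F_sub (P Q : RelRing g) : F g (P - Q) = F g P - F g Q :=
  map_sub ({ toFun := F g, map_zero' := F_zero, map_add' := F_add } : RelRing g →+ RelRing g) P Q

/-- `P` dominates the monomial `d` with a positive coefficient. -/
def Dom (P : RelRing g) (d : Var g →₀ ℕ) : Prop :=
  ∃ c : ℚ, 0 < c ∧ Good (P - monomial d ((-1 : ℚ) ^ Finsupp.degree d * c))

theorem dom_step {P : RelRing g} {d d' : Var g →₀ ℕ} (hd : ∀ v : {p : ℕ × ℕ // Valid g p}, d (some v) ≠ 0 → 1 ≤ v.1.2)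
    (hP : Dom P d) (hF : ∀ c : ℚ, 0 < c → Dom (F g (monomial d ((-1 : ℚ) ^ Finsupp.degree d * c))) d') :
    Dom (F g P) d' := by
  obtain ⟨c, hc, hg'⟩ := hP
  obtain ⟨c', hc', hg''⟩ := hF c hc
  refine ⟨c', hc', ?_⟩
  have h1 := good_F hg'
  rw [F_sub] at h1
  simpa using good_add h1 hg''

theorem dom_merge {p q r : ℕ × ℕ} (hp : Valid g p) (hq : Valid g q) (hr : Valid g r)
    (hr1 : (r.1 : ℤ) = p.1 + q.1 - 2) (hr2 : r.2 = p.2 + q.2) (hp1 : 1 ≤ p.1) (hq1 : 1 ≤ q.1)
    {d : Var g →₀ ℕ} (h0 : d none = 0) (hd : ∀ v : {p : ℕ × ℕ // Valid g p}, d (some v) ≠ 0 → 1 ≤ v.1.2)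
    (hdq : d (some ⟨q, hq⟩) ≠ 0) (hdp : (d - Finsupp.single (some ⟨q, hq⟩) 1 : Var g →₀ ℕ) (some ⟨p, hp⟩) ≠ 0) {c : ℚ} (hc : 0 < c) :
    Dom (F g (monomial d ((-1 : ℚ) ^ Finsupp.degree d * c)))
      (Finsupp.single (some ⟨r, hr⟩) 1 + (d - Finsupp.single (some ⟨q, hq⟩) 1 - Finsupp.single (some ⟨p, hp⟩) 1)) := by
  set a : ℚ := (-1 : ℚ) ^ Finsupp.degree d * c
  set d1 := d - Finsupp.single (some ⟨q, hq⟩) 1 with hd1
  set e := d1 - Finsupp.single (some ⟨p, hp⟩) 1 with he
  set m : ℚ := (mergeCoeff p.1 q.1 : ℚ)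
  have hm : 0 < m := by
    simp only [m, mergeCoeff, if_neg (show ¬(p.1 = 0 ∨ q.1 = 0) by omega), Nat.cast_pos]
    exact Nat.choose_pos (by omega)
  have h : d none = 0 → 0 ≤ (-1 : ℚ) ^ Finsupp.degree d * a ∧ ∀ v : {p : ℕ × ℕ // Valid g p}, d (some v) ≠ 0 → 1 ≤ v.1.2 :=
    fun _ => ⟨by simp only [a, ← mul_assoc, ← pow_add, Even.neg_one_pow ⟨_, rfl⟩, one_mul]; exact hc.le, hd⟩
  have e1 := degree_sub_single hdp
  have e2 := degree_sub_single hdq
  rw [← hd1] at e2; rw [← he] at e1
  refine ⟨(1 / 2) * c * m * (d (some ⟨q, hq⟩) : ℚ) * (d1 (some ⟨p, hp⟩) : ℚ), by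
    have : (0 : ℚ) < d (some ⟨q, hq⟩) := by exact_mod_cast Nat.pos_of_ne_zero hdq
    have : (0 : ℚ) < d1 (some ⟨p, hp⟩) := by exact_mod_cast Nat.pos_of_ne_zero hdp
    positivity, ?_⟩
  have hg' := good_sub_term2 h (mem_idx hp) (mem_idx hq)
  have hterm : (1 / 2 : ℚ) • term2 d a p q = X none * ((1 / 2 : ℚ) •
        (xv g ((p.1 : ℤ) - 1) ((p.2 : ℤ) - 1) * xv g ((q.1 : ℤ) - 1) ((q.2 : ℤ) - 1) * dv g p (dv g q (monomial d a)))) +
      monomial (Finsupp.single (some ⟨r, hr⟩) 1 + e) ((-1 : ℚ) ^ Finsupp.degree (Finsupp.single (some ⟨r, hr⟩) 1 + e) *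
        ((1 / 2) * c * m * (d (some ⟨q, hq⟩) : ℚ) * (d1 (some ⟨p, hp⟩) : ℚ))) := by
    have hxv : xv g ((p.1 : ℤ) + q.1 - 2) ((p.2 : ℤ) + q.2) = X (some ⟨r, hr⟩) := by
      rw [← hr1, ← Nat.cast_add, ← hr2]; exact xv_valid hr
    have hsgn : (-1 : ℚ) ^ Finsupp.degree (Finsupp.single (some ⟨r, hr⟩ : Var g) 1 + e) = -((-1 : ℚ) ^ Finsupp.degree d) := by
      rw [map_add, Finsupp.degree_single, show Finsupp.degree d = Finsupp.degree e + 2 by omega, pow_add, pow_add]; ring
    rw [mul_smul_comm, ← mul_assoc, ← mul_assoc, term2, sub_mul, smul_sub, sub_eq_add_neg, hxv, hsgn]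
    congr 1
    rw [dv_dv_monomial hp hq, ← map_natCast (C : ℚ →+* RelRing g), mul_assoc, ← MvPolynomial.smul_eq_C_mul, X, monomial_mul,
      one_mul, smul_monomial, smul_monomial, ← map_neg]
    refine congrArg (monomial _) ?_
    simp only [a, m, smul_eq_mul, ← hd1]
    ring
  rw [hterm] at hg'
  have h2 := good_add hg' (good_y_mul ((1 / 2 : ℚ) •
    (xv g ((p.1 : ℤ) - 1) ((p.2 : ℤ) - 1) * xv g ((q.1 : ℤ) - 1) ((q.2 : ℤ) - 1) * dv g p (dv g q (monomial d a)))))
  rw [sub_add, add_sub_cancel_left] at h2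
  exact h2

theorem dom_lower {p r : ℕ × ℕ} (hp : Valid g p) (hr : Valid g r) (hr1 : (r.1 : ℤ) = p.1 - 2) (hr2 : r.2 = p.2)
    (hj : 1 ≤ p.2) {c : ℚ} (hc : 0 < c) :
    Dom (F g (monomial (Finsupp.single (some ⟨p, hp⟩) 1) ((-1 : ℚ) ^ Finsupp.degree (Finsupp.single (some ⟨p, hp⟩ : Var g) 1) * c)))
      (Finsupp.single (some ⟨r, hr⟩) 1) := by
  set a : ℚ := (-1 : ℚ) ^ Finsupp.degree (Finsupp.single (some ⟨p, hp⟩ : Var g) 1) * c
  have ha : a = -c := by simp [a, Finsupp.degree_single]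
  refine ⟨c, hc, ?_⟩
  have hg' := good_sub_term1 (d := Finsupp.single (some ⟨p, hp⟩ : Var g) 1) (a := a) (fun _ => ⟨by
      rw [ha, Finsupp.degree_single]; linarith, fun v hv => by
      obtain rfl : v = ⟨p, hp⟩ := by
        by_contra hne
        exact hv (Finsupp.single_eq_of_ne (by simpa using hne))
      exact hj⟩) (mem_idx hp)
  have hterm : term1 (Finsupp.single (some ⟨p, hp⟩ : Var g) 1) a p =
      monomial (Finsupp.single (some ⟨r, hr⟩) 1) ((-1 : ℚ) ^ Finsupp.degree (Finsupp.single (some ⟨r, hr⟩ : Var g) 1) * c) := by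
    rw [term1, dv_monomial hp, ← hr1, ← hr2, xv_valid hr, X, monomial_mul, ha]
    simp [Finsupp.degree_single]
  rwa [hterm] at hg'

/-- Homogeneity for the second index. -/
noncomputable def w2 (v : Var g) : ℤ := ((wt g v).2 : ℤ)

theorem isHom2_xv (a b : ℤ) : IsWeightedHomogeneous (w2 (g := g)) (xv g a b) b := by
  unfold xv
  split_ifs with h0 h
  · rw [h0.2, ← map_natCast (C : ℚ →+* RelRing g)]
    exact isWeightedHomogeneous_C _ _
  · convert! isWeightedHomogeneous_X ℚ (w2 (g := g)) (some ⟨(a.toNat, b.toNat), h.2.2⟩) using 1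
    simp [w2, wt, h.2.1]
  · exact isWeightedHomogeneous_zero _ _ _

theorem isHom2_dv {P : RelRing g} {m : ℤ} (hP : IsWeightedHomogeneous w2 P m) (p : ℕ × ℕ) :
    IsWeightedHomogeneous w2 (dv g p P) (m - p.2) := by
  by_cases h : Valid g p
  · rw [dv_valid h]
    exact hP.pderiv (by simp [w2, wt])
  · rw [dv_not h]
    exact isWeightedHomogeneous_zero _ _ _

theorem isHom2_F {P : RelRing g} {m : ℤ} (hP : IsWeightedHomogeneous w2 P m) : IsWeightedHomogeneous w2 (F g P) m := by
  have hnat : ∀ k : ℕ, IsWeightedHomogeneous (w2 (g := g)) ((k : RelRing g)) 0 := fun k => by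
    rw [← map_natCast (C : ℚ →+* RelRing g)]; exact isWeightedHomogeneous_C _ _
  have hy : IsWeightedHomogeneous (w2 (g := g)) (X none : RelRing g) 2 := isWeightedHomogeneous_X _ _ _
  refine IsWeightedHomogeneous.add ?_ (IsWeightedHomogeneous.sum _ _ _ fun p _ => ?_)
  · rw [MvPolynomial.smul_eq_C_mul]
    refine (IsWeightedHomogeneous.sum _ _ _ fun p _ => IsWeightedHomogeneous.sum _ _ _ fun q _ => ?_).C_mul _
    have h1 := ((hy.mul (isHom2_xv ((p.1 : ℤ) - 1) ((p.2 : ℤ) - 1))).mul (isHom2_xv ((q.1 : ℤ) - 1) ((q.2 : ℤ) - 1)))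
    have h2 := (hnat (mergeCoeff p.1 q.1)).mul (isHom2_xv (g := g) ((p.1 : ℤ) + q.1 - 2) ((p.2 : ℤ) + q.2))
    rw [show (2 : ℤ) + ((p.2 : ℤ) - 1) + ((q.2 : ℤ) - 1) = (p.2 : ℤ) + q.2 by ring] at h1
    rw [zero_add] at h2
    have h3 := (h1.sub h2).mul (isHom2_dv (isHom2_dv hP q) p)
    rwa [show (p.2 : ℤ) + q.2 + (m - q.2 - p.2) = m by ring] at h3
  · have h3 := (isHom2_xv (g := g) ((p.1 : ℤ) - 2) (p.2 : ℤ)).mul (isHom2_dv hP p)
    rwa [show (p.2 : ℤ) + (m - p.2) = m by ring] at h3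

theorem isHom2_iterate {P : RelRing g} {m : ℤ} (hP : IsWeightedHomogeneous w2 P m) :
    ∀ k : ℕ, IsWeightedHomogeneous w2 ((F g)^[k] P) m
  | 0 => hP
  | k + 1 => by rw [Function.iterate_succ_apply']; exact isHom2_F (isHom2_iterate hP k)

theorem valid_chain {j : ℕ} (hj : 1 ≤ j) (hjg : j + 2 ≤ 2 * g) : Valid g (j + 2, j) :=
  ⟨le_rfl, hjg, ⟨j + 1, by ring⟩, fun h => by simp at h⟩

theorem dom_chain {i : ℕ} (hig : i + 1 ≤ g) (hi : 1 ≤ i) :
    ∀ (k : ℕ) (hk : k + 1 ≤ 2 * i), Dom ((F g)^[k] (monomial (Finsupp.single (some ⟨(3, 1), valid_chain (j := 1) le_rfl (by omega)⟩ : Var g) (2 * i)) 1))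
      (Finsupp.single (some ⟨(k + 3, k + 1), valid_chain (g := g) (j := k + 1) (by omega) (by omega)⟩ : Var g) 1 +
        Finsupp.single (some ⟨(3, 1), valid_chain (j := 1) le_rfl (by omega)⟩ : Var g) (2 * i - (k + 1)))
  | 0, hk => by
    refine ⟨1, one_pos, ?_⟩
    rw [← Finsupp.single_add, show 1 + (2 * i - (0 + 1)) = 2 * i by omega, Function.iterate_zero_apply,
      Finsupp.degree_single, pow_mul]
    simpa using good_zero
  | k + 1, hk => by
    rw [Function.iterate_succ_apply']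
    set v31 : Var g := some ⟨(3, 1), valid_chain (j := 1) le_rfl (by omega)⟩ with hv31
    set vk : Var g := some ⟨(k + 3, k + 1), valid_chain (g := g) (j := k + 1) (by omega) (by omega)⟩ with hvk
    have hd : ∀ v : {p : ℕ × ℕ // Valid g p}, (Finsupp.single vk 1 + Finsupp.single v31 (2 * i - (k + 1)) : Var g →₀ ℕ) (some v) ≠ 0 → 1 ≤ v.1.2 := by
      intro v hv
      by_contra hne
      apply hv
      have n1 : (some v : Var g) ≠ vk := fun e => hne (by rw [hvk] at e; rw [Option.some.inj e]; exact Nat.le_add_left _ _)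
      have n2 : (some v : Var g) ≠ v31 := fun e => hne (by rw [hv31] at e; rw [Option.some.inj e])
      rw [Finsupp.add_apply, Finsupp.single_eq_of_ne n1, Finsupp.single_eq_of_ne n2, add_zero]
    refine dom_step hd (dom_chain hig hi k (by omega)) fun c hc => ?_
    have := dom_merge (p := (k + 3, k + 1)) (q := (3, 1)) (r := (k + 1 + 3, k + 1 + 1))
      (valid_chain (j := k + 1) (by omega) (by omega)) (valid_chain (j := 1) le_rfl (by omega))
      (valid_chain (j := k + 1 + 1) (by omega) (by omega)) (by push_cast; ring) rfl (by omega) (by omega)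
      (d := Finsupp.single vk 1 + Finsupp.single v31 (2 * i - (k + 1))) (by simp [hvk, hv31]) hd
      (by rw [← hv31]; simp; omega) (by
        rw [← hv31, ← hvk]
        rcases eq_or_ne v31 vk with he | hne
        · rw [← he]; simp; omega
        · simp [hne, hne.symm]) hc
    convert! this using 2
    rw [← hv31, ← hvk]
    ext o
    by_cases e1 : vk = o <;> by_cases e2 : v31 = o <;> simp [Finsupp.single_apply, e1, e2] <;> omega

theorem dom_end {i : ℕ} (hig : i + 1 ≤ g) (hi : 1 ≤ i) :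
    ∀ (m : ℕ) (_hm : m ≤ i + 1) (hv : Valid g (2 * i + 2 - 2 * m, 2 * i)),
      Dom ((F g)^[2 * i - 1 + m] (monomial (Finsupp.single (some ⟨(3, 1), valid_chain (j := 1) le_rfl (by omega)⟩ : Var g) (2 * i)) 1))
        (Finsupp.single (some ⟨(2 * i + 2 - 2 * m, 2 * i), hv⟩ : Var g) 1)
  | 0, _, hv => by
    have := dom_chain hig hi (2 * i - 1) (by omega)
    rw [show 2 * i - (2 * i - 1 + 1) = 0 by omega, Finsupp.single_zero, add_zero] at this
    convert! this using 1
    refine congrArg (fun o => Finsupp.single o 1) (congrArg some (Subtype.ext (Prod.ext ?_ ?_))) <;> dsimp only <;> omega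
  | m + 1, hm, hv => by
    have hv' : Valid g (2 * i + 2 - 2 * m, 2 * i) := ⟨by dsimp only; omega, by dsimp only; omega, ⟨2 * i + 1 - m, by dsimp only; omega⟩, by simp; omega⟩
    rw [show 2 * i - 1 + (m + 1) = (2 * i - 1 + m) + 1 by omega, Function.iterate_succ_apply']
    refine dom_step (fun v hv2 => ?_) (dom_end hig hi m (by omega) hv') fun c hc => ?_
    · obtain rfl : v = ⟨_, hv'⟩ := by
        by_contra hne
        exact hv2 (Finsupp.single_eq_of_ne (by simpa using hne))
      show 1 ≤ 2 * i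
      omega
    · exact dom_lower hv' hv (by push_cast; omega) rfl (by show 1 ≤ 2 * i; omega) hc

theorem xv_zero_two (i : ℕ) : ∃ q ∈ Algebra.adjoin ℚ (lowGens g), xv g 0 (2 * (i : ℤ)) - q ∈ relIdeal g := by
  classical
  induction i using Nat.strong_induction_on with
  | _ i ih =>
    rcases Nat.eq_zero_or_pos i with rfl | hi
    · refine ⟨algebraMap ℚ _ (g : ℚ), Subalgebra.algebraMap_mem _ _, ?_⟩
      simp [xv]
    by_cases hlow : 3 * i ≤ g
    · exact ⟨_, Algebra.subset_adjoin (Or.inr ⟨i, hi, hlow, by norm_cast⟩), by simp⟩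
    by_cases hbig : g < i + 1
    · refine ⟨0, zero_mem _, ?_⟩
      have : xv g 0 (2 * (i : ℤ)) = 0 := by
        unfold xv
        rw [if_neg (by omega), dif_neg]
        rintro ⟨-, -, -, h2, -, -⟩
        dsimp only at h2
        omega
      simp [this]
    have hig : i + 1 ≤ g := by omega
    have hv0 : Valid g (0, 2 * i) := ⟨by simp, by dsimp only; omega, ⟨i, by dsimp only; omega⟩, by simp; omega⟩
    have hv0' : Valid g (2 * i + 2 - 2 * (i + 1), 2 * i) := by
      rw [show 2 * i + 2 - 2 * (i + 1) = 0 by omega]; exact hv0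
    obtain ⟨c, hc, hgood⟩ := dom_end hig hi (i + 1) le_rfl hv0'
    have hst : (some ⟨(2 * i + 2 - 2 * (i + 1), 2 * i), hv0'⟩ : Var g) = some ⟨(0, 2 * i), hv0⟩ := by
      simp [show 2 * i + 2 - 2 * (i + 1) = 0 by omega]
    rw [hst, show 2 * i - 1 + (i + 1) = 3 * i by omega] at hgood
    set v31 : Var g := some ⟨(3, 1), valid_chain (j := 1) le_rfl (by omega)⟩ with hv31
    set t : Var g →₀ ℕ := Finsupp.single (some ⟨(0, 2 * i), hv0⟩) 1 with ht
    set R := (F g)^[3 * i] (monomial (Finsupp.single v31 (2 * i)) (1 : ℚ)) with hR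
    have hRI : R ∈ relIdeal g := Ideal.subset_span ⟨_, _, by simp [hv31, wt, Finsupp.weight_apply]; omega, rfl⟩
    have hcoef : coeff t R ≠ 0 := by
      intro h0
      have h := hgood t (by simp [coeff_sub, h0, hc.ne']) (by simp [ht])
      simp [coeff_sub, h0, ht, Finsupp.degree_single] at h
      linarith [h.1]
    have hw1 : IsWeightedHomogeneous w R 0 := by
      have := isHom_iterate (isWeightedHomogeneous_monomial (w (g := g)) (Finsupp.single v31 (2 * i)) (1 : ℚ) rfl) (3 * i)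
      simpa [hv31, w, wt, Finsupp.weight_apply, Finsupp.sum_single_index, show ((2 : ℤ) * i) * 3 - 2 * (3 * i) = 0 by ring] using this
    have hw2 : IsWeightedHomogeneous w2 R (2 * i : ℕ) := by
      have := isHom2_iterate (isWeightedHomogeneous_monomial (w2 (g := g)) (Finsupp.single v31 (2 * i)) (1 : ℚ) rfl) (3 * i)
      simpa [hv31, w2, wt, Finsupp.weight_apply] using this
    let π := Ideal.Quotient.mkₐ ℚ (relIdeal g)
    let B := (Algebra.adjoin ℚ (lowGens g)).map π
    have hX : ∀ d ∈ R.support, d ≠ t → π (monomial d (1 : ℚ)) ∈ B := by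
      intro d hd hdt
      have h1 := hw1 (mem_support_iff.1 hd)
      have h2 := hw2 (mem_support_iff.1 hd)
      rw [Finsupp.weight_apply, Finsupp.sum] at h1 h2
      rw [monomial_eq, map_one, one_mul, Finsupp.prod, map_prod]
      refine Subalgebra.prod_mem _ fun o ho => ?_
      rw [map_pow]
      refine Subalgebra.pow_mem _ ?_ _
      cases o with
      | none => exact ⟨_, Algebra.subset_adjoin (Or.inl rfl), rfl⟩
      | some v =>
        obtain ⟨⟨a, b⟩, hv⟩ := v
        have hnn : ∀ o' ∈ d.support, 0 ≤ d o' • w o' := fun o' _ => nsmul_nonneg (Int.natCast_nonneg _) _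
        have hnn2 : ∀ o' ∈ d.support, 0 ≤ d o' • w2 o' := fun o' _ => nsmul_nonneg (Int.natCast_nonneg _) _
        have hd0 := Finsupp.mem_support_iff.1 ho
        have ha : a = 0 := by
          have := (Finset.sum_eq_zero_iff_of_nonneg hnn).1 h1 _ ho
          simpa [w, wt, hd0] using this
        subst ha
        obtain ⟨b', hb'⟩ := hv.2.2.1
        dsimp only at hb'
        have hble : d (some ⟨(0, b), hv⟩) * b ≤ 2 * i := by
          have := Finset.single_le_sum hnn2 ho
          rw [h2] at this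
          simpa [w2, wt, ← @Nat.cast_le ℤ] using this
        have hblt : b < 2 * i := by
          by_contra hge
          apply hdt
          have hb1 : b = 2 * i ∧ d (some ⟨(0, b), hv⟩) = 1 := by
            have : b ≤ d (some ⟨(0, b), hv⟩) * b := Nat.le_mul_of_pos_left _ (Nat.pos_of_ne_zero hd0)
            have hbi : b = 2 * i := by omega
            refine ⟨hbi, ?_⟩
            subst hbi
            nlinarith [Nat.pos_of_ne_zero hd0]
          obtain ⟨rfl, hd1⟩ := hb1
          ext o'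
          rcases eq_or_ne o' (some ⟨(0, 2 * i), hv0⟩ : Var g) with rfl | hne'
          · simpa [ht] using hd1
          · rw [ht, Finsupp.single_eq_of_ne hne']
            by_contra ho'
            have hsum := Finset.sum_le_sum_of_subset_of_nonneg (f := fun o => d o • w2 o)
              (show ({o', some ⟨(0, 2 * i), hv⟩} : Finset (Var g)) ⊆ d.support from Finset.insert_subset
                (Finsupp.mem_support_iff.2 ho') (Finset.singleton_subset_iff.2 ho)) fun o _ _ => nsmul_nonneg (Int.natCast_nonneg _) _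
            rw [Finset.sum_pair hne', h2, hd1] at hsum
            simp only [w2, wt, one_smul] at hsum
            have hpos : 1 ≤ (wt g o').2 := by
              rcases o' with _ | ⟨⟨a', b''⟩, hv'⟩
              · simp [wt]
              · have := (Finset.sum_eq_zero_iff_of_nonneg hnn).1 h1 _ (Finsupp.mem_support_iff.2 ho')
                obtain rfl : a' = 0 := by simpa [w, wt, ho'] using this
                by_contra hb0
                exact hv'.2.2.2 (by simp only [wt] at hb0; simp; omega)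
            simp only [wt] at hpos
            have := Nat.pos_of_ne_zero ho'
            simp only [nsmul_eq_mul] at hsum
            norm_cast at hsum
            nlinarith
        obtain ⟨qq, hq, hmem⟩ := ih b' (by omega)
        refine ⟨qq, hq, ?_⟩
        symm
        refine (Ideal.Quotient.eq).2 ?_
        rw [← xv_valid hv]
        convert! hmem using 3
        simp; omega
    have hRsum : R = monomial t (coeff t R) + ∑ d ∈ R.support.erase t, monomial d (coeff d R) := by
      rw [Finset.add_sum_erase _ (fun d => monomial d (coeff d R)) (mem_support_iff.2 hcoef)]; exact R.as_sum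
    have hmem : π (monomial t (coeff t R)) ∈ B := by
      have h0 : π R = 0 := Ideal.Quotient.eq_zero_iff_mem.2 hRI
      rw [hRsum, map_add, map_sum] at h0
      rw [eq_neg_of_add_eq_zero_left h0]
      refine neg_mem (sum_mem fun d hd => ?_)
      rw [← mul_one (coeff d R), ← smul_eq_mul, ← smul_monomial, map_smul]
      exact B.smul_mem (hX d (Finset.mem_of_mem_erase hd) (Finset.ne_of_mem_erase hd)) _
    have hfin : π (X (some ⟨(0, 2 * i), hv0⟩)) ∈ B := by
      have := B.smul_mem hmem (coeff t R)⁻¹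
      rw [← map_smul, smul_monomial, smul_eq_mul, inv_mul_cancel₀ hcoef] at this
      exact this
    obtain ⟨qq, hq, he⟩ := hfin
    refine ⟨qq, hq, ?_⟩
    rw [show xv g 0 (2 * (i : ℤ)) = X (some ⟨(0, 2 * i), hv0⟩) by rw [← xv_valid hv0]; norm_cast]
    exact Ideal.Quotient.eq.1 he.symm

end TautRelLib
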